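import Cfsg.Agent.H728.PM.Def

/-!
# S5925, box H: helper947's plan (v3, final) as a term of helper728's plan language
(generated from tools/plans/S5925_code/h947/plan.txt by helper136)
-/

set_option autoImplicit false
set_option linter.style.longLine false

namespace Cfsg.Agent.H136.P9
open Cfsg.Agent.H728.PM

def plD3 : Plan :=
  (.df (.add (.mul (.fr (.fr (.v 1))) (.v 2)) (.mul (.fr (.fr (.v 4))) (.v 7))) (.df (.add (.mul (.pw 50) (.add (.mul (.k 20) (.v 2)) (.mul (.fr (.fr (.v 5))) (.v 7)))) (.mul (.pw 24) (.fr (.add (.mul (.fr (.fr (.v 9))) (.v 6)) (.mul (.fr (.fr (.v 5))) (.k 15)))))) (.df (.add (.sub (.add (.add (.add (.mul (.pw 26) (.add (.mul (.fr (.fr (.v 1))) (.v 1)) (.mul (.fr (.fr (.v 4))) (.v 6)))) (.mul (.pw 63) (.add (.mul (.k 20) (.k 16)) (.mul (.fr (.fr (.v 5))) (.v 8))))) (.mul (.pw 7) (.neg (.add (.mul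 (.fr (.fr (.v 6))) (.v 4)) (.mul (.fr (.fr (.v 10))) (.v 10)))))) (.mul (.pw 74) (.neg (.add (.mul (.fr (.fr (.v 3))) (.v 7)) (.mul (.fr (.fr (.v 9))) (.v 11)))))) (.add (.add (.add (.mul (.pw 69) (.fr (.neg (.add (.mul (.fr (.fr (.v 4))) (.v 6)) (.mul (.k 21) (.k 15)))))) (.mul (.pw 63) (.fr (.neg (.add (.mul (.fr (.fr (.v 3))) (.v 7)) (.mul (.k 20) (.k 16))))))) (.mul (.pw 7) (.fr (.add (.mul (.fr (.fr (.v 9))) (.v 11)) (.mul (.fr (.fr (.v 5))) (.v 8)))))) (.mul (.pw 61) (.fr (.neg (.add (.mul (.fr (.fr (.v 5))) (.v 8)) (.mul (.k 19) (.k 14)))))))) (.pw 0)) (.df (.add (.mul (.pw 70) (.neg (.add (.mul (.fr (.fr (.v 6))) (.v 2)) (.mul (.fr (.fr (.v 10))) (.v 7))))) (.mul (.pw 32) (.fr (.neg (.add (.mul (.fr (.fr (.v 3))) (.v 8)) (.mul (.k 20) (.k 14))))))) (.df (.sub (.add (.add (.add (.mul (.pw 7) (.add (.mul (.k 20)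 (.k 16)) (.mul (.fr (.fr (.v 5))) (.v 8)))) (.mul (.pw 74) (.add (.mul (.fr (.fr (.v 0))) (.v 2)) (.mul (.fr (.fr (.v 3))) (.v 7))))) (.mul (.pw 26) (.neg (.add (.mul (.fr (.fr (.v 6))) (.v 4)) (.mul (.fr (.fr (.v 10))) (.v 10)))))) (.mul (.pw 63) (.neg (.add (.mul (.fr (.fr (.v 3))) (.v 7)) (.mul (.fr (.fr (.v 9))) (.v 11)))))) (.add (.add (.add (.mul (.pw 7) (.fr (.neg (.add (.mul (.fr (.fr (.v 4))) (.v 6)) (.mul (.k 21) (.k 15)))))) (.mul (.pw 61) (.fr (.neg (.add (.mul (.fr (.fr (.v 3))) (.v 7)) (.mul (.k 20) (.k 16))))))) (.mul (.pw 69) (.fr (.neg (.add (.mul (.fr (.fr (.v 5))) (.v 8)) (.mul (.k 19) (.k 14))))))) (.mul (.pw 63) (.fr (.add (.mul (.fr (.fr (.v 10))) (.v 10)) (.mul (.fr (.fr (.v 8))) (.v 5))))))) (.df (.add (.mul (.pw 70) (.add (.mul (.k 20) (.v 1)) (.mul (.fr (.fr (.v 5))) (.v 6)))) (.mul (.pw 64)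 (.fr (.add (.mul (.fr (.fr (.v 10))) (.v 7)) (.mul (.fr (.fr (.v 8))) (.k 16)))))) (.df (.neg (.add (.mul (.fr (.fr (.v 6))) (.v 1)) (.mul (.fr (.fr (.v 10))) (.v 6)))) (.df (.add (.mul (.pw 50) (.neg (.add (.mul (.fr (.fr (.v 3))) (.v 1)) (.mul (.fr (.fr (.v 9))) (.v 6))))) (.mul (.pw 72) (.fr (.neg (.add (.mul (.fr (.fr (.v 4))) (.v 8)) (.mul (.k 21) (.k 14))))))) (.fl [(.sub (.add (.add (.add (.mul (.v 0) (.v 12)) (.mul (.k 15) (.v 13))) (.mul (.v 1) (.v 14))) (.mul (.v 3) (.v 15))) (.add (.add (.add (.mul (.v 1) (.v 16)) (.mul (.k 16) (.v 17))) (.mul (.v 4) (.v 18))) (.mul (.v 7) (.v 19))))] [0, 1, 2, 3, 4, 5, 6, 7, 8, 9, 10, 11]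
  (.leaf [(.sub (.v 0) (.pw 63)), (.sub (.k 15) (.pw 0)), (.sub (.v 1) (.pw 4)), (.sub (.v 3) (.pw 35)), (.sub (.v 6) (.pw 72)), (.sub (.k 14) (.pw 1)), (.sub (.k 16) (.pw 10)), (.sub (.v 5) (.pw 44)), (.sub (.v 8) (.pw 4)), (.sub (.v 2) (.pw 3)), (.sub (.v 4) (.pw 42)), (.sub (.v 7) (.pw 5)), (.sub (.v 9) (.pw 65)), (.sub (.v 10) (.pw 33)), (.sub (.v 11) (.pw 65))]))))))))))

def plD2 : Plan :=
  (.ksp (.k 17)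
  (.fl [(.sub (.add (.add (.mul (.k 21) (.v 6)) (.mul (.k 19) (.v 8))) (.mul (.k 20) (.v 7))) (.mul (.fr (.fr (.v 8))) (.v 10)))] [0, 1, 2, 3, 4, 5, 6, 7, 8, 9, 10]
    (.df (.sub (.add (.add (.mul (.fr (.fr (.v 1))) (.v 6)) (.mul (.k 20) (.v 8))) (.mul (.fr (.fr (.v 0))) (.v 7))) (.mul (.fr (.fr (.v 6))) (.v 10))) (.df (.sub (.add (.add (.mul (.fr (.fr (.v 2))) (.v 6)) (.mul (.k 21) (.v 8))) (.mul (.fr (.fr (.v 1))) (.v 7))) (.mul (.fr (.fr (.v 7))) (.v 10))) (.ex (.fl [(.sub (.v 11) (.mul (.fr (.fr (.v 3))) (.v 13))), (.sub (.v 12) (.mul (.fr (.fr (.v 4))) (.v 13)))] [0, 1, 2, 3, 4, 5, 6, 7, 8, 9, 10, 13]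
    (.fl [(.sub (.mul (.v 9) (.fr (.fr (.v 11)))) (.k 53)), (.sub (.add (.add (.mul (.fr (.fr (.v 1))) (.v 6)) (.mul (.k 20) (.v 8))) (.mul (.fr (.fr (.v 0))) (.v 7))) (.add (.mul (.fr (.fr (.v 6))) (.v 10)) (.mul (.fr (.fr (.v 3))) (.v 11)))), (.sub (.add (.add (.mul (.fr (.fr (.v 2))) (.v 6)) (.mul (.k 21) (.v 8))) (.mul (.fr (.fr (.v 1))) (.v 7))) (.add (.mul (.fr (.fr (.v 7))) (.v 10)) (.mul (.fr (.fr (.v 4))) (.v 11)))), (.sub (.add (.mul (.fr (.fr (.v 10))) (.v 9)) (.mul (.fr (.fr (.v 9))) (.v 10))) (.add (.add (.mul (.fr (.fr (.v 4))) (.v 3)) (.mul (.fr (.fr (.v 5))) (.v 5))) (.mul (.fr (.fr (.v 3))) (.v 4)))), (.sub (.add (.mul (.fr (.fr (.v 11))) (.v 10)) (.mul (.fr (.fr (.v 10))) (.v 11))) (.add (.add (.mul (.fr (.fr (.v 7))) (.v 6)) (.mul (.fr (.fr (.v 8))) (.v 8))) (.mul (.fr (.fr (.v 6))) (.v 7)))), (.sub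 (.sub (.add (.mul (.fr (.fr (.v 11))) (.v 9)) (.mul (.fr (.fr (.v 10))) (.v 10))) (.add (.add (.mul (.fr (.fr (.v 7))) (.v 3)) (.mul (.fr (.fr (.v 8))) (.v 5))) (.mul (.fr (.fr (.v 6))) (.v 4)))) (.pw 0))] [0, 1, 2, 3, 4, 5, 6, 7, 8, 9, 10, 11]
    plD3))))))
  (.df (.mul (.sub (.add (.add (.mul (.k 21) (.v 6)) (.mul (.k 19) (.v 8))) (.mul (.k 20) (.v 7))) (.mul (.fr (.fr (.v 8))) (.v 10))) (.mul (.fr (.fr (.v 5))) (.mul (.mul (.mul (.fr (.fr (.fr (.v 5)))) (.fr (.fr (.fr (.fr (.v 5)))))) (.fr (.fr (.fr (.fr (.fr (.v 5))))))) (.mul (.mul (.fr (.fr (.fr (.v 5)))) (.fr (.fr (.fr (.fr (.v 5)))))) (.fr (.fr (.fr (.fr (.fr (.v 5)))))))))) (.fl [(.sub (.mul (.v 9) (.fr (.fr (.v 11)))) (.k 53)), (.sub (.add (.add (.mul (.fr (.fr (.v 1))) (.v 6)) (.mul (.k 20) (.v 8))) (.mul (.fr (.fr (.v 0))) (.v 7))) (.add (.mul (.fr (.fr (.v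 6))) (.v 10)) (.mul (.fr (.fr (.v 3))) (.v 11)))), (.sub (.add (.add (.mul (.fr (.fr (.v 2))) (.v 6)) (.mul (.k 21) (.v 8))) (.mul (.fr (.fr (.v 1))) (.v 7))) (.add (.mul (.fr (.fr (.v 7))) (.v 10)) (.mul (.fr (.fr (.v 4))) (.v 11)))), (.sub (.add (.mul (.fr (.fr (.v 10))) (.v 9)) (.mul (.fr (.fr (.v 9))) (.v 10))) (.add (.add (.mul (.fr (.fr (.v 4))) (.v 3)) (.mul (.fr (.fr (.v 5))) (.v 5))) (.mul (.fr (.fr (.v 3))) (.v 4)))), (.sub (.add (.mul (.fr (.fr (.v 11))) (.v 10)) (.mul (.fr (.fr (.v 10))) (.v 11))) (.add (.add (.mul (.fr (.fr (.v 7))) (.v 6)) (.mul (.fr (.fr (.v 8))) (.v 8))) (.mul (.fr (.fr (.v 6))) (.v 7)))), (.sub (.sub (.add (.mul (.fr (.fr (.v 11))) (.v 9)) (.mul (.fr (.fr (.v 10))) (.v 10))) (.add (.add (.mul (.fr (.fr (.v 7))) (.v 3)) (.mul (.fr (.fr (.v 8))) (.v 5))) (.mul (.fr (.fr (.v 6))) (.v 4))))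 (.pw 0))] [0, 1, 2, 3, 4, 5, 6, 7, 8, 9, 10, 11]
    plD3)))

def plD1 : Plan :=
  (.alt [.zero, (.pw 0), (.neg (.pw 0))]
  (.kf (.add (.add (.add (.add (.pw 0) (.mul (.pw 20) (.add (.add (.add (.add (.k 1) (.k 2)) (.k 3)) (.k 5)) (.k 6)))) (.k 4)) (.neg (.k 33))) (.mul (.pw 60) (.k 51))) (.kf (.add (.add (.add (.add (.add (.add (.add (.k 0) (.mul (.pw 43) (.k 1))) (.mul (.pw 46) (.k 2))) (.mul (.pw 55) (.k 3))) (.mul (.pw 42) (.k 5))) (.mul (.pw 3) (.k 6))) (.k 33)) (.mul (.pw 20) (.k 51))) (.ex (.fl [(.sub (.mul (.v 9) (.fr (.fr (.v 9)))) (.k 52))] [0, 1, 2, 3, 4, 5, 6, 7, 8, 9]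
  (.ksp (.k 18)
  (.fl [(.sub (.add (.add (.mul (.k 21) (.v 3)) (.mul (.k 19) (.v 5))) (.mul (.k 20) (.v 4))) (.mul (.fr (.fr (.v 5))) (.v 9)))] [0, 1, 2, 3, 4, 5, 6, 7, 8, 9]
    (.df (.sub (.add (.add (.mul (.fr (.fr (.v 1))) (.v 3)) (.mul (.k 20) (.v 5))) (.mul (.fr (.fr (.v 0))) (.v 4))) (.mul (.fr (.fr (.v 3))) (.v 9))) (.df (.sub (.add (.add (.mul (.fr (.fr (.v 2))) (.v 3)) (.mul (.k 21) (.v 5))) (.mul (.fr (.fr (.v 1))) (.v 4))) (.mul (.fr (.fr (.v 4))) (.v 9))) (.ex (.fl [(.sub (.v 10) (.mul (.fr (.fr (.v 6))) (.v 12))), (.sub (.v 11) (.mul (.fr (.fr (.v 7))) (.v 12)))] [0, 1, 2, 3, 4, 5, 6, 7, 8, 12, 9]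
    plD2)))))
  (.df (.mul (.sub (.add (.add (.mul (.k 21) (.v 3)) (.mul (.k 19) (.v 5))) (.mul (.k 20) (.v 4))) (.mul (.fr (.fr (.v 5))) (.v 9))) (.mul (.fr (.fr (.v 8))) (.mul (.mul (.mul (.fr (.fr (.fr (.v 8)))) (.fr (.fr (.fr (.fr (.v 8)))))) (.fr (.fr (.fr (.fr (.fr (.v 8))))))) (.mul (.mul (.fr (.fr (.fr (.v 8)))) (.fr (.fr (.fr (.fr (.v 8)))))) (.fr (.fr (.fr (.fr (.fr (.v 8)))))))))) (.fl [(.sub (.sub (.add (.add (.mul (.fr (.fr (.v 1))) (.v 3)) (.mul (.k 20) (.v 5))) (.mul (.fr (.fr (.v 0))) (.v 4))) (.mul (.fr (.fr (.v 3))) (.v 9))) (.mul (.fr (.fr (.v 6))) (.v 10))), (.sub (.sub (.add (.add (.mul (.fr (.fr (.v 2))) (.v 3)) (.mul (.k 21) (.v 5))) (.mul (.fr (.fr (.v 1))) (.v 4))) (.mul (.fr (.fr (.v 4))) (.v 9))) (.mul (.fr (.fr (.v 7))) (.v 10)))] [0, 1, 2, 3, 4, 5, 6, 7, 8, 10, 9]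
    plD2))))))))

def plS3 : Plan :=
  (.kf (.sub (.k 31) (.k 30)) (.kf (.sub (.k 7) (.fr (.fr (.k 7)))) (.kf (.sub (.k 30) (.fr (.fr (.k 31)))) (.kf (.sub (.fr (.fr (.k 35))) (.k 34)) (.kf (.sub (.fr (.fr (.k 34))) (.k 35)) (.kf (.add (.sub (.add (.add (.add (.mul (.pw 7) (.k 41)) (.mul (.pw 74) (.k 42))) (.mul (.pw 26) (.k 43))) (.mul (.pw 63) (.k 44))) (.add (.add (.add (.mul (.pw 7) (.fr (.k 40))) (.mul (.pw 61) (.fr (.k 42)))) (.mul (.pw 69) (.fr (.k 41)))) (.mul (.pw 63) (.fr (.k 43))))) (.pw 0)) (.kf (.sub (.add (.add (.add (.mul (.pw 63) (.k 40)) (.mul (.pw 7) (.k 42))) (.mul (.pw 74) (.k 43))) (.mul (.pw 26) (.k 44))) (.add (.add (.add (.mul (.pw 63) (.fr (.k 40))) (.mul (.pw 7) (.fr (.k 42)))) (.mul (.pw 61) (.fr (.k 44)))) (.mul (.pw 69) (.fr (.k 43))))) (.kf (.sub (.sub (.add (.add (.add (.mul (.pw 26) (.k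 40)) (.mul (.pw 63) (.k 41))) (.mul (.pw 7) (.k 43))) (.mul (.pw 74) (.k 44))) (.add (.add (.add (.mul (.pw 69) (.fr (.k 40))) (.mul (.pw 63) (.fr (.k 42)))) (.mul (.pw 7) (.fr (.k 44)))) (.mul (.pw 61) (.fr (.k 41))))) (.pw 0)) (.kf (.sub (.k 47) (.k 45)) (.kf (.sub (.k 46) (.k 45)) (.kf (.sub (.k 47) (.k 46)) (.df (.mul (.fr (.fr (.v 2))) (.v 1)) (.df (.sub (.v 9) (.fr (.fr (.v 9)))) (.df (.sub (.mul (.v 1) (.k 21)) (.mul (.v 2) (.k 20))) (.df (.sub (.mul (.fr (.fr (.v 4))) (.v 0)) (.mul (.fr (.fr (.v 3))) (.v 1))) (.df (.sub (.mul (.fr (.fr (.v 7))) (.v 1)) (.mul (.fr (.fr (.v 6))) (.v 2))) (.df (.sub (.mul (.fr (.fr (.v 1))) (.k 15)) (.mul (.fr (.fr (.v 0))) (.k 16))) (.df (.sub (.mul (.fr (.fr (.v 7))) (.v 0)) (.mul (.fr (.fr (.v 6))) (.v 1))) (.df (.sub (.mul (.fr (.fr (.v 4))) (.k 15)) (.mul (.fr (.fr (.v 3)))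 (.k 16))) (.df (.sub (.mul (.pw 50) (.v 11)) (.mul (.pw 24) (.fr (.v 12)))) (.df (.sub (.mul (.pw 32) (.fr (.v 14))) (.mul (.pw 70) (.v 13))) (.df (.neg (.add (.mul (.pw 70) (.fr (.fr (.v 14)))) (.mul (.pw 64) (.fr (.v 13))))) (.df (.neg (.add (.mul (.pw 50) (.v 12)) (.mul (.pw 72) (.fr (.fr (.fr (.v 11))))))) (.df (.neg (.add (.mul (.pw 50) (.fr (.fr (.v 11)))) (.mul (.pw 16) (.fr (.fr (.fr (.v 12))))))) (.df (.sub (.mul (.pw 70) (.v 14)) (.mul (.pw 56) (.fr (.fr (.fr (.v 13)))))) (.fl [(.sub (.add (.add (.add (.add (.mul (.v 0) (.v 10)) (.mul (.k 15) (.v 17))) (.mul (.v 1) (.k 48))) (.mul (.v 3) (.v 18))) (.mul (.v 4) (.v 15))) (.add (.mul (.k 16) (.v 19)) (.mul (.v 7) (.v 20)))), (.sub (.add (.add (.add (.mul (.v 0) (.v 21)) (.mul (.k 15) (.k 49))) (.mul (.v 1) (.v 22))) (.mul (.v 5) (.v 15))) (.add (.add (.mul (.v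 6) (.v 16)) (.mul (.k 14) (.v 19))) (.mul (.v 8) (.v 20)))), (.sub (.add (.add (.add (.add (.mul (.k 15) (.v 10)) (.mul (.k 14) (.v 17))) (.mul (.k 16) (.k 50))) (.mul (.v 5) (.v 18))) (.mul (.v 7) (.v 16))) (.add (.mul (.v 1) (.v 21)) (.mul (.v 2) (.v 22))))] [0, 1, 2, 3, 4, 5, 6, 7, 8]
  plD1))))))))))))))))))))))))))

def plS2 : Plan :=
  (.exn (.df (.mul (.v 8) (.v 3)) (.df (.mul (.v 8) (.v 6)) (.df (.mul (.v 8) (.k 17)) (.df (.mul (.fr (.fr (.v 7))) (.v 5)) (.df (.mul (.fr (.fr (.v 7))) (.v 4)) (.df (.mul (.fr (.fr (.v 7))) (.k 18)) (.sel [0, 1, 2, 9, 10, 11, 12, 13, 14]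
  plS3))))))))

def plS2i : Plan :=
  (.alt [(.pw 0), (.pw 79), (.pw 78), (.pw 77)]
  (.kf (.mul (.k 38) (.mul (.mul (.mul (.fr (.k 38)) (.fr (.fr (.k 38)))) (.fr (.fr (.fr (.k 38))))) (.mul (.mul (.fr (.k 38)) (.fr (.fr (.k 38)))) (.fr (.fr (.fr (.k 38))))))) (.df (.mul (.k 39) (.v 3)) (.df (.mul (.k 39) (.v 6)) (.df (.mul (.k 39) (.k 17)) (.df (.mul (.fr (.fr (.k 38))) (.v 5)) (.df (.mul (.fr (.fr (.k 38))) (.v 4)) (.df (.mul (.fr (.fr (.k 38))) (.k 18)) (.sel [0, 1, 2, 7, 8, 9, 10, 11, 12]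
  plS3)))))))))

def plS2j : Plan :=
  (.alt [(.pw 0), (.pw 9), (.pw 18), (.pw 27)]
  (.kf (.mul (.k 38) (.mul (.mul (.mul (.fr (.k 38)) (.fr (.fr (.k 38)))) (.fr (.fr (.fr (.k 38))))) (.mul (.mul (.fr (.k 38)) (.fr (.fr (.k 38)))) (.fr (.fr (.fr (.k 38))))))) (.df (.mul (.k 39) (.v 3)) (.df (.mul (.k 39) (.v 6)) (.df (.mul (.k 39) (.k 17)) (.df (.mul (.fr (.fr (.k 38))) (.v 5)) (.df (.mul (.fr (.fr (.k 38))) (.v 4)) (.df (.mul (.fr (.fr (.k 38))) (.k 18)) (.sel [0, 1, 2, 7, 8, 9, 10, 11, 12]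
  plS3)))))))))

def plAT : Plan :=
  (.df (.sub (.v 3) (.mul (.v 7) (.k 23))) (.df (.mul (.sub (.v 4) (.v 8)) (.k 24)) (.df (.mul (.v 7) (.fr (.fr (.v 9)))) (.df (.mul (.v 10) (.fr (.fr (.v 8)))) (.fl [(.sub (.mul (.v 9) (.fr (.fr (.v 10)))) (.k 35)), (.sub (.v 5) (.add (.v 11) (.fr (.fr (.v 11))))), (.sub (.v 6) (.add (.v 12) (.fr (.fr (.v 12)))))] [1, 0, 2, 7, 8, 9, 10]
  plS2)))))

def plAlpha : Plan :=
  (.alt [.zero, (.pw 0), (.neg (.pw 0))]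
  (.kf (.neg (.add (.add (.k 12) (.mul (.pw 20) (.k 29))) (.k 33))) (.kf (.neg (.add (.add (.k 13) (.mul (.pw 60) (.k 29))) (.neg (.k 33)))) (.kf (.fr (.fr (.k 34))) (.kf (.fr (.fr (.k 35))) (.kf .zero (.kf .zero (.ksp (.k 34)
  (.or
    (.ex (.df .zero (.sel [0, 1, 2, 3, 4, 5, 6, 7, 9]
      plAT)))
    (.exn (.df .zero (.sel [0, 1, 2, 3, 4, 5, 6, 9, 7]
      plAT))))
  (.exn (.df (.mul (.k 36) (.fr (.fr (.v 8)))) (.sel [0, 1, 2, 3, 4, 5, 6, 7, 9]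
    plAT)))))))))))

def plB1b : Plan :=
  (.ex (.df (.mul (.v 8) (.fr (.fr (.v 4)))) (.fl [(.sub (.mul (.v 3) (.fr (.fr (.v 8)))) (.k 35)), (.sub (.v 6) (.add (.v 10) (.fr (.fr (.v 10)))))] [1, 0, 2, 7, 4, 3, 8]
  plS2)))

def plBeta1 : Plan :=
  (.alt [.zero, (.pw 0), (.neg (.pw 0))]
  (.kf (.neg (.add (.add (.k 12) (.mul (.pw 20) (.k 29))) (.k 33))) (.kf (.neg (.add (.add (.k 13) (.mul (.pw 60) (.k 29))) (.neg (.k 33)))) (.kf (.fr (.fr (.k 34))) (.kf (.fr (.fr (.k 35))) (.kf .zero (.kf .zero (.ex (.df (.mul (.v 7) (.fr (.fr (.v 3)))) (.fl [(.sub (.mul (.v 7) (.fr (.fr (.v 4)))) (.k 34)), (.sub (.v 5) (.add (.v 9) (.fr (.fr (.v 9)))))] [0, 1, 2, 3, 4, 5, 6, 7]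
  plB1b))))))))))

def plB2b : Plan :=
  (.ex (.df (.mul (.v 4) (.fr (.fr (.v 8)))) (.fl [(.sub (.mul (.v 3) (.fr (.fr (.v 8)))) (.k 34)), (.sub (.v 6) (.add (.v 10) (.fr (.fr (.v 10)))))] [1, 0, 2, 3, 8, 7, 4]
  plS2)))

def plBeta2 : Plan :=
  (.alt [.zero, (.pw 0), (.neg (.pw 0))]
  (.kf (.neg (.add (.add (.k 12) (.mul (.pw 20) (.k 29))) (.k 33))) (.kf (.neg (.add (.add (.k 13) (.mul (.pw 60) (.k 29))) (.neg (.k 33)))) (.kf (.fr (.fr (.k 34))) (.kf (.fr (.fr (.k 35))) (.kf .zero (.kf .zero (.ex (.df (.mul (.v 3) (.fr (.fr (.v 7)))) (.fl [(.sub (.mul (.v 7) (.fr (.fr (.v 4)))) (.k 35)), (.sub (.v 5) (.add (.v 9) (.fr (.fr (.v 9)))))] [0, 1, 2, 3, 4, 5, 6, 7]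
  plB2b))))))))))

def plAT0 : Plan :=
  (.df (.sub (.v 3) (.mul (.v 7) (.k 23))) (.df (.mul (.sub (.v 4) (.v 8)) (.k 24)) (.df (.mul (.v 7) (.fr (.fr (.v 9)))) (.df (.mul (.v 10) (.fr (.fr (.v 8)))) (.fl [(.sub (.mul (.v 9) (.fr (.fr (.v 10)))) (.k 35)), (.sub (.v 5) (.add (.v 11) (.fr (.fr (.v 11))))), (.sub (.v 6) (.add (.v 12) (.fr (.fr (.v 12)))))] [1, 0, 2, 7, 8, 9, 10]
  plS2i)))))

def plAlpha0 : Plan :=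
  (.alt [.zero, (.pw 0), (.neg (.pw 0))]
  (.kf (.neg (.add (.add (.k 12) (.mul (.pw 20) (.k 29))) (.k 33))) (.kf (.neg (.add (.add (.k 13) (.mul (.pw 60) (.k 29))) (.neg (.k 33)))) (.kf (.fr (.fr (.k 34))) (.kf (.fr (.fr (.k 35))) (.ksp (.k 34)
  (.or
    (.ex (.df .zero (.sel [0, 1, 2, 3, 4, 5, 6, 7, 9]
      plAT0)))
    (.exn (.df .zero (.sel [0, 1, 2, 3, 4, 5, 6, 9, 7]
      plAT0))))
  (.exn (.df (.mul (.k 36) (.fr (.fr (.v 8)))) (.sel [0, 1, 2, 3, 4, 5, 6, 7, 9]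
    plAT0)))))))))

def plB1b0 : Plan :=
  (.ex (.df (.mul (.v 8) (.fr (.fr (.v 4)))) (.fl [(.sub (.mul (.v 3) (.fr (.fr (.v 8)))) (.k 35)), (.sub (.v 6) (.add (.v 10) (.fr (.fr (.v 10)))))] [1, 0, 2, 7, 4, 3, 8]
  plS2i)))

def plBeta10 : Plan :=
  (.alt [.zero, (.pw 0), (.neg (.pw 0))]
  (.kf (.neg (.add (.add (.k 12) (.mul (.pw 20) (.k 29))) (.k 33))) (.kf (.neg (.add (.add (.k 13) (.mul (.pw 60) (.k 29))) (.neg (.k 33)))) (.kf (.fr (.fr (.k 34))) (.kf (.fr (.fr (.k 35))) (.ex (.df (.mul (.v 7) (.fr (.fr (.v 3)))) (.fl [(.sub (.mul (.v 7) (.fr (.fr (.v 4)))) (.k 34)), (.sub (.v 5) (.add (.v 9) (.fr (.fr (.v 9)))))] [0, 1, 2, 3, 4, 5, 6, 7]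
  plB1b0))))))))

def plB2b0 : Plan :=
  (.ex (.df (.mul (.v 4) (.fr (.fr (.v 8)))) (.fl [(.sub (.mul (.v 3) (.fr (.fr (.v 8)))) (.k 34)), (.sub (.v 6) (.add (.v 10) (.fr (.fr (.v 10)))))] [1, 0, 2, 3, 8, 7, 4]
  plS2j)))

def plBeta20 : Plan :=
  (.alt [.zero, (.pw 0), (.neg (.pw 0))]
  (.kf (.neg (.add (.add (.k 12) (.mul (.pw 20) (.k 29))) (.k 33))) (.kf (.neg (.add (.add (.k 13) (.mul (.pw 60) (.k 29))) (.neg (.k 33)))) (.kf (.fr (.fr (.k 34))) (.kf (.fr (.fr (.k 35))) (.ex (.df (.mul (.v 3) (.fr (.fr (.v 7)))) (.fl [(.sub (.mul (.v 7) (.fr (.fr (.v 4)))) (.k 35)), (.sub (.v 5) (.add (.v 9) (.fr (.fr (.v 9)))))] [0, 1, 2, 3, 4, 5, 6, 7]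
  plB2b0))))))))

def plB3c : Plan :=
  (.df (.mul (.v 5) (.fr (.fr (.v 7)))) (.df (.mul (.v 8) (.fr (.fr (.v 6)))) (.fl [(.sub (.v 3) (.add (.v 9) (.fr (.fr (.v 9))))), (.sub (.v 4) (.add (.v 10) (.fr (.fr (.v 10)))))] [0, 1, 2, 3, 4, 5, 6, 7, 8]
  (.df .zero (.sel [1, 0, 2, 5, 8, 9, 7, 6, 9]
  plS3)))))

def plBeta3 : Plan :=
  (.fl [(.v 3), (.v 4)] [0, 1, 2, 5, 6]
  (.alt [.zero, (.pw 0), (.neg (.pw 0))]
  (.kf (.neg (.add (.add (.k 12) (.mul (.pw 20) (.k 29))) (.k 33))) (.kf (.neg (.add (.add (.k 13) (.mul (.pw 60) (.k 29))) (.neg (.k 33)))) (.kf (.fr (.fr (.k 34))) (.kf (.fr (.fr (.k 35))) (.kf .zero (.kf .zero (.ksp (.k 34)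
  (.or
    (.ex (.df .zero (.sel [0, 1, 2, 3, 4, 5, 7]
      (.ksp (.k 35)
      (.or
        (.ex (.df .zero (.sel [0, 1, 2, 3, 4, 5, 6, 7, 9]
          plB3c)))
        (.exn (.df .zero (.sel [0, 1, 2, 3, 4, 5, 6, 9, 7]
          plB3c))))
      (.exn (.df (.mul (.k 37) (.fr (.fr (.v 8)))) (.sel [0, 1, 2, 3, 4, 5, 6, 7, 9]
        plB3c)))))))
    (.exn (.df .zero (.sel [0, 1, 2, 3, 4, 7, 5]
      (.ksp (.k 35)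
      (.or
        (.ex (.df .zero (.sel [0, 1, 2, 3, 4, 5, 6, 7, 9]
          plB3c)))
        (.exn (.df .zero (.sel [0, 1, 2, 3, 4, 5, 6, 9, 7]
          plB3c))))
      (.exn (.df (.mul (.k 37) (.fr (.fr (.v 8)))) (.sel [0, 1, 2, 3, 4, 5, 6, 7, 9]
        plB3c))))))))
  (.exn (.df (.mul (.k 36) (.fr (.fr (.v 6)))) (.sel [0, 1, 2, 3, 4, 5, 7]
    (.ksp (.k 35)
    (.or
      (.ex (.df .zero (.sel [0, 1, 2, 3, 4, 5, 6, 7, 9]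
        plB3c)))
      (.exn (.df .zero (.sel [0, 1, 2, 3, 4, 5, 6, 9, 7]
        plB3c))))
    (.exn (.df (.mul (.k 37) (.fr (.fr (.v 8)))) (.sel [0, 1, 2, 3, 4, 5, 6, 7, 9]
      plB3c))))))))))))))))

def plZ0c : Plan :=
  (.df (.mul (.v 7) (.fr (.fr (.k 38)))) (.df (.mul (.k 39) (.fr (.fr (.v 8)))) (.df (.sub (.mul (.fr (.fr (.k 39))) (.v 1)) (.mul (.fr (.fr (.v 7))) (.v 0))) (.df (.sub (.mul (.fr (.fr (.v 8))) (.v 0)) (.mul (.fr (.fr (.k 38))) (.v 2))) (.df (.fr (.v 11)) (.df (.fr (.v 12)) (.df (.mul (.pw 16) (.fr (.fr (.v 13)))) (.df (.mul (.pw 56) (.fr (.fr (.v 14)))) (.fl [(.sub (.v 5) (.add (.v 9) (.fr (.fr (.v 9))))), (.sub (.v 6) (.add (.v 10) (.fr (.fr (.v 10))))), (.sub (.add (.mul (.v 1) (.v 15)) (.mul (.v 0) (.v 16))) (.mul (.mul (.pw 64) (.k 14)) (.v 14))), (.sub (.mul (.mul (.pw 24) (.k 14)) (.v 13))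 (.add (.mul (.v 0) (.v 15)) (.mul (.v 2) (.v 16))))] [1, 0, 2, 7, 8]
  (.df (.k 38) (.df (.k 39) (.df .zero (.sel [0, 1, 2, 3, 6, 7, 5, 4, 7]
  plS3)))))))))))))

def plZ0b : Plan :=
  (.ksp (.k 34)
  (.or
    (.ex (.df .zero (.sel [0, 1, 2, 3, 4, 5, 6, 7, 9]
      plZ0c)))
    (.exn (.df .zero (.sel [0, 1, 2, 3, 4, 5, 6, 9, 7]
      plZ0c))))
  (.exn (.df (.mul (.k 36) (.fr (.fr (.v 8)))) (.sel [0, 1, 2, 3, 4, 5, 6, 7, 9]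
    plZ0c))))

def plZ0d : Plan :=
  (.fl [(.v 5), (.v 6)] [1, 0, 2]
  (.df (.k 38) (.df (.k 39) (.df .zero (.sel [0, 1, 2, 3, 5, 5, 5, 4, 5]
  plS3)))))

def plZ0e : Plan :=
  (.ksp (.k 34)
  (.or
    (.alt [(.pw 0), (.pw 1), (.pw 2), (.pw 3), (.pw 4)]
      (.kf .zero plZ0d))
    (.kf .zero (.alt [.zero, (.pw 0), (.pw 1), (.pw 2), (.pw 3), (.pw 4)]
      plZ0d)))
  (.alt [(.pw 0), (.pw 1), (.pw 2), (.pw 3), (.pw 4)]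
    (.kf (.mul (.k 36) (.fr (.fr (.mul (.k 38) (.mul (.mul (.mul (.fr (.k 38)) (.fr (.fr (.k 38)))) (.fr (.fr (.fr (.k 38))))) (.mul (.mul (.fr (.k 38)) (.fr (.fr (.k 38)))) (.fr (.fr (.fr (.k 38)))))))))) plZ0d)))

def plZ0 : Plan :=
  (.alt [.zero, (.pw 0), (.neg (.pw 0))]
  (.kf (.neg (.add (.add (.k 12) (.mul (.pw 20) (.k 29))) (.k 33))) (.kf (.neg (.add (.add (.k 13) (.mul (.pw 60) (.k 29))) (.neg (.k 33)))) (.kf (.fr (.fr (.k 34))) (.kf (.fr (.fr (.k 35))) (.ksp (.k 35)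
  (.or
    (.alt [(.pw 0), (.pw 1), (.pw 2), (.pw 3), (.pw 4)]
      (.kf .zero plZ0b))
    (.or
      (.kf .zero (.alt [(.pw 0), (.pw 1), (.pw 2), (.pw 3), (.pw 4)]
        plZ0b))
      plZ0e))
  (.alt [(.pw 0), (.pw 1), (.pw 2), (.pw 3), (.pw 4)]
    (.kf (.mul (.k 37) (.fr (.fr (.mul (.k 38) (.mul (.mul (.mul (.fr (.k 38)) (.fr (.fr (.k 38)))) (.fr (.fr (.fr (.k 38))))) (.mul (.mul (.fr (.k 38)) (.fr (.fr (.k 38)))) (.fr (.fr (.fr (.k 38)))))))))) plZ0b))))))))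

def plTa : Plan :=
  (.df (.add (.add (.mul (.v 1) (.k 21)) (.k 25)) (.mul (.v 0) (.k 20))) (.df (.add (.add (.mul (.v 0) (.k 21)) (.k 26)) (.mul (.v 2) (.k 20))) (.df (.mul (.v 1) (.fr (.fr (.v 0)))) (.df (.mul (.v 0) (.fr (.fr (.v 2)))) (.df (.add (.k 27) (.add (.v 5) (.fr (.fr (.v 5))))) (.df (.add (.k 28) (.add (.v 6) (.fr (.fr (.v 6))))) (.sel [0, 1, 2, 3, 4, 7, 8]
  plAlpha)))))))

def plLa : Plan :=
  (.alt [.zero, (.pw 0), (.neg (.pw 0))]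
  (.kf (.add (.k 10) (.mul (.pw 20) (.k 29))) (.kf (.add (.k 11) (.mul (.pw 60) (.k 29))) (.kf (.fr (.fr (.k 31))) (.ex (.fl [(.sub (.mul (.v 0) (.fr (.fr (.v 0)))) (.k 30))] [0]
  (.ksp (.k 31)
  (.or
    (.ex (.df .zero (.sel [0, 1, 3]
      plTa)))
    (.exn (.df .zero (.sel [0, 3, 1]
      plTa))))
  (.exn (.df (.mul (.k 32) (.fr (.fr (.v 2)))) (.sel [0, 1, 3]
    plTa))))))))))

def plTb1 : Plan :=
  (.df (.add (.add (.mul (.v 1) (.k 21)) (.k 25)) (.mul (.v 0) (.k 20))) (.df (.add (.add (.mul (.v 0) (.k 21)) (.k 26)) (.mul (.v 2) (.k 20))) (.df (.mul (.v 1) (.fr (.fr (.v 0)))) (.df (.mul (.v 0) (.fr (.fr (.v 2)))) (.df (.add (.k 27) (.add (.v 5) (.fr (.fr (.v 5))))) (.df (.add (.k 28) (.add (.v 6) (.fr (.fr (.v 6))))) (.sel [0, 1, 2, 3, 4, 7, 8]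
  plBeta1)))))))

def plLb1 : Plan :=
  (.alt [.zero, (.pw 0), (.neg (.pw 0))]
  (.kf (.add (.k 10) (.mul (.pw 20) (.k 29))) (.kf (.add (.k 11) (.mul (.pw 60) (.k 29))) (.kf (.fr (.fr (.k 31))) (.ex (.fl [(.sub (.mul (.v 0) (.fr (.fr (.v 0)))) (.k 30))] [0]
  (.ksp (.k 31)
  (.or
    (.ex (.df .zero (.sel [0, 1, 3]
      plTb1)))
    (.exn (.df .zero (.sel [0, 3, 1]
      plTb1))))
  (.exn (.df (.mul (.k 32) (.fr (.fr (.v 2)))) (.sel [0, 1, 3]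
    plTb1))))))))))

def plTb2 : Plan :=
  (.df (.add (.add (.mul (.v 1) (.k 21)) (.k 25)) (.mul (.v 0) (.k 20))) (.df (.add (.add (.mul (.v 0) (.k 21)) (.k 26)) (.mul (.v 2) (.k 20))) (.df (.mul (.v 1) (.fr (.fr (.v 0)))) (.df (.mul (.v 0) (.fr (.fr (.v 2)))) (.df (.add (.k 27) (.add (.v 5) (.fr (.fr (.v 5))))) (.df (.add (.k 28) (.add (.v 6) (.fr (.fr (.v 6))))) (.sel [0, 1, 2, 3, 4, 7, 8]
  plBeta2)))))))

def plLb2 : Plan :=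
  (.alt [.zero, (.pw 0), (.neg (.pw 0))]
  (.kf (.add (.k 10) (.mul (.pw 20) (.k 29))) (.kf (.add (.k 11) (.mul (.pw 60) (.k 29))) (.kf (.fr (.fr (.k 31))) (.ex (.fl [(.sub (.mul (.v 0) (.fr (.fr (.v 0)))) (.k 30))] [0]
  (.ksp (.k 31)
  (.or
    (.ex (.df .zero (.sel [0, 1, 3]
      plTb2)))
    (.exn (.df .zero (.sel [0, 3, 1]
      plTb2))))
  (.exn (.df (.mul (.k 32) (.fr (.fr (.v 2)))) (.sel [0, 1, 3]
    plTb2))))))))))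

def plTb3 : Plan :=
  (.df (.add (.add (.mul (.v 1) (.k 21)) (.k 25)) (.mul (.v 0) (.k 20))) (.df (.add (.add (.mul (.v 0) (.k 21)) (.k 26)) (.mul (.v 2) (.k 20))) (.df (.mul (.v 1) (.fr (.fr (.v 0)))) (.df (.mul (.v 0) (.fr (.fr (.v 2)))) (.df (.add (.k 27) (.add (.v 5) (.fr (.fr (.v 5))))) (.df (.add (.k 28) (.add (.v 6) (.fr (.fr (.v 6))))) (.sel [0, 1, 2, 3, 4, 7, 8]
  plBeta3)))))))

def plLb3 : Plan :=
  (.alt [.zero, (.pw 0), (.neg (.pw 0))]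
  (.kf (.add (.k 10) (.mul (.pw 20) (.k 29))) (.kf (.add (.k 11) (.mul (.pw 60) (.k 29))) (.kf (.fr (.fr (.k 31))) (.ex (.fl [(.sub (.mul (.v 0) (.fr (.fr (.v 0)))) (.k 30))] [0]
  (.ksp (.k 31)
  (.or
    (.ex (.df .zero (.sel [0, 1, 3]
      plTb3)))
    (.exn (.df .zero (.sel [0, 3, 1]
      plTb3))))
  (.exn (.df (.mul (.k 32) (.fr (.fr (.v 2)))) (.sel [0, 1, 3]
    plTb3))))))))))

def plTa0 : Plan :=
  (.df (.add (.add (.mul (.v 1) (.k 21)) (.k 25)) (.mul (.v 0) (.k 20))) (.df (.add (.add (.mul (.v 0) (.k 21)) (.k 26)) (.mul (.v 2) (.k 20))) (.df (.mul (.v 1) (.fr (.fr (.v 0)))) (.df (.mul (.v 0) (.fr (.fr (.v 2)))) (.df (.add (.k 27) (.add (.v 5) (.fr (.fr (.v 5))))) (.df (.add (.k 28) (.add (.v 6) (.fr (.fr (.v 6))))) (.sel [0, 1, 2, 3, 4, 7, 8]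
  plAlpha0)))))))

def plLa0 : Plan :=
  (.alt [.zero, (.pw 0), (.neg (.pw 0))]
  (.kf (.add (.k 10) (.mul (.pw 20) (.k 29))) (.kf (.add (.k 11) (.mul (.pw 60) (.k 29))) (.kf (.fr (.fr (.k 31))) (.ex (.fl [(.sub (.mul (.v 0) (.fr (.fr (.v 0)))) (.k 30))] [0]
  (.ksp (.k 31)
  (.or
    (.ex (.df .zero (.sel [0, 1, 3]
      plTa0)))
    (.exn (.df .zero (.sel [0, 3, 1]
      plTa0))))
  (.exn (.df (.mul (.k 32) (.fr (.fr (.v 2)))) (.sel [0, 1, 3]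
    plTa0))))))))))

def plTb10 : Plan :=
  (.df (.add (.add (.mul (.v 1) (.k 21)) (.k 25)) (.mul (.v 0) (.k 20))) (.df (.add (.add (.mul (.v 0) (.k 21)) (.k 26)) (.mul (.v 2) (.k 20))) (.df (.mul (.v 1) (.fr (.fr (.v 0)))) (.df (.mul (.v 0) (.fr (.fr (.v 2)))) (.df (.add (.k 27) (.add (.v 5) (.fr (.fr (.v 5))))) (.df (.add (.k 28) (.add (.v 6) (.fr (.fr (.v 6))))) (.sel [0, 1, 2, 3, 4, 7, 8]
  plBeta10)))))))

def plLb10 : Plan :=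
  (.alt [.zero, (.pw 0), (.neg (.pw 0))]
  (.kf (.add (.k 10) (.mul (.pw 20) (.k 29))) (.kf (.add (.k 11) (.mul (.pw 60) (.k 29))) (.kf (.fr (.fr (.k 31))) (.ex (.fl [(.sub (.mul (.v 0) (.fr (.fr (.v 0)))) (.k 30))] [0]
  (.ksp (.k 31)
  (.or
    (.ex (.df .zero (.sel [0, 1, 3]
      plTb10)))
    (.exn (.df .zero (.sel [0, 3, 1]
      plTb10))))
  (.exn (.df (.mul (.k 32) (.fr (.fr (.v 2)))) (.sel [0, 1, 3]
    plTb10))))))))))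

def plTb20 : Plan :=
  (.df (.add (.add (.mul (.v 1) (.k 21)) (.k 25)) (.mul (.v 0) (.k 20))) (.df (.add (.add (.mul (.v 0) (.k 21)) (.k 26)) (.mul (.v 2) (.k 20))) (.df (.mul (.v 1) (.fr (.fr (.v 0)))) (.df (.mul (.v 0) (.fr (.fr (.v 2)))) (.df (.add (.k 27) (.add (.v 5) (.fr (.fr (.v 5))))) (.df (.add (.k 28) (.add (.v 6) (.fr (.fr (.v 6))))) (.sel [0, 1, 2, 3, 4, 7, 8]
  plBeta20)))))))

def plLb20 : Plan :=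
  (.alt [.zero, (.pw 0), (.neg (.pw 0))]
  (.kf (.add (.k 10) (.mul (.pw 20) (.k 29))) (.kf (.add (.k 11) (.mul (.pw 60) (.k 29))) (.kf (.fr (.fr (.k 31))) (.ex (.fl [(.sub (.mul (.v 0) (.fr (.fr (.v 0)))) (.k 30))] [0]
  (.ksp (.k 31)
  (.or
    (.ex (.df .zero (.sel [0, 1, 3]
      plTb20)))
    (.exn (.df .zero (.sel [0, 3, 1]
      plTb20))))
  (.exn (.df (.mul (.k 32) (.fr (.fr (.v 2)))) (.sel [0, 1, 3]
    plTb20))))))))))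

def plTz : Plan :=
  (.df (.add (.add (.mul (.v 1) (.k 21)) (.k 25)) (.mul (.v 0) (.k 20))) (.df (.add (.add (.mul (.v 0) (.k 21)) (.k 26)) (.mul (.v 2) (.k 20))) (.df (.mul (.v 1) (.fr (.fr (.v 0)))) (.df (.mul (.v 0) (.fr (.fr (.v 2)))) (.df (.add (.k 27) (.add (.v 5) (.fr (.fr (.v 5))))) (.df (.add (.k 28) (.add (.v 6) (.fr (.fr (.v 6))))) (.sel [0, 1, 2, 3, 4, 7, 8]
  plZ0)))))))

def plLz : Plan :=
  (.alt [.zero, (.pw 0), (.neg (.pw 0))]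
  (.kf (.add (.k 10) (.mul (.pw 20) (.k 29))) (.kf (.add (.k 11) (.mul (.pw 60) (.k 29))) (.kf (.fr (.fr (.k 31))) (.ex (.fl [(.sub (.mul (.v 0) (.fr (.fr (.v 0)))) (.k 30))] [0]
  (.ksp (.k 31)
  (.or
    (.ex (.df .zero (.sel [0, 1, 3]
      plTz)))
    (.exn (.df .zero (.sel [0, 3, 1]
      plTz))))
  (.exn (.df (.mul (.k 32) (.fr (.fr (.v 2)))) (.sel [0, 1, 3]
    plTz))))))))))

def plCa : Plan :=
  (.kf (.fr (.fr (.k 14))) (.kf (.fr (.fr (.k 15))) (.kf (.fr (.fr (.k 16))) (.kf (.fr (.fr (.k 17))) (.kf (.fr (.fr (.k 18))) (.kf (.mul (.k 23) (.mul (.mul (.mul (.fr (.k 23)) (.fr (.fr (.k 23)))) (.fr (.fr (.fr (.k 23))))) (.mul (.mul (.fr (.k 23)) (.fr (.fr (.k 23)))) (.fr (.fr (.fr (.k 23))))))) (.kf (.mul (.k 15) (.k 19)) (.kf (.mul (.k 16) (.k 19)) (.kf (.mul (.k 15) (.k 20)) (.kf (.mul (.k 16) (.k 21)) plLa))))))))))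

def plCb1 : Plan :=
  (.kf (.fr (.fr (.k 14))) (.kf (.fr (.fr (.k 15))) (.kf (.fr (.fr (.k 16))) (.kf (.fr (.fr (.k 17))) (.kf (.fr (.fr (.k 18))) (.kf (.mul (.k 23) (.mul (.mul (.mul (.fr (.k 23)) (.fr (.fr (.k 23)))) (.fr (.fr (.fr (.k 23))))) (.mul (.mul (.fr (.k 23)) (.fr (.fr (.k 23)))) (.fr (.fr (.fr (.k 23))))))) (.kf (.mul (.k 15) (.k 19)) (.kf (.mul (.k 16) (.k 19)) (.kf (.mul (.k 15) (.k 20)) (.kf (.mul (.k 16) (.k 21)) plLb1))))))))))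

def plCb2 : Plan :=
  (.kf (.fr (.fr (.k 14))) (.kf (.fr (.fr (.k 15))) (.kf (.fr (.fr (.k 16))) (.kf (.fr (.fr (.k 17))) (.kf (.fr (.fr (.k 18))) (.kf (.mul (.k 23) (.mul (.mul (.mul (.fr (.k 23)) (.fr (.fr (.k 23)))) (.fr (.fr (.fr (.k 23))))) (.mul (.mul (.fr (.k 23)) (.fr (.fr (.k 23)))) (.fr (.fr (.fr (.k 23))))))) (.kf (.mul (.k 15) (.k 19)) (.kf (.mul (.k 16) (.k 19)) (.kf (.mul (.k 15) (.k 20)) (.kf (.mul (.k 16) (.k 21)) plLb2))))))))))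

def plCb3 : Plan :=
  (.kf (.fr (.fr (.k 14))) (.kf (.fr (.fr (.k 15))) (.kf (.fr (.fr (.k 16))) (.kf (.fr (.fr (.k 17))) (.kf (.fr (.fr (.k 18))) (.kf (.mul (.k 23) (.mul (.mul (.mul (.fr (.k 23)) (.fr (.fr (.k 23)))) (.fr (.fr (.fr (.k 23))))) (.mul (.mul (.fr (.k 23)) (.fr (.fr (.k 23)))) (.fr (.fr (.fr (.k 23))))))) (.kf (.mul (.k 15) (.k 19)) (.kf (.mul (.k 16) (.k 19)) (.kf (.mul (.k 15) (.k 20)) (.kf (.mul (.k 16) (.k 21)) plLb3))))))))))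

def plBr : Plan :=
  (.or
  (.kf (.pw 0) (.kf (.fr (.fr (.k 8))) (.ksp (.k 8)
    plCb1
    plCa)))
  (.kfl [(.k 8)]
    (.or
    (.kf .zero (.kf (.pw 0) plCb2))
    (.kf .zero (.kf .zero plCb3)))))

def plCa0 : Plan :=
  (.kf (.fr (.fr (.k 14))) (.kf (.fr (.fr (.k 15))) (.kf (.fr (.fr (.k 16))) (.kf (.fr (.fr (.k 17))) (.kf (.fr (.fr (.k 18))) (.kf (.mul (.k 23) (.mul (.mul (.mul (.fr (.k 23)) (.fr (.fr (.k 23)))) (.fr (.fr (.fr (.k 23))))) (.mul (.mul (.fr (.k 23)) (.fr (.fr (.k 23)))) (.fr (.fr (.fr (.k 23))))))) (.kf (.mul (.k 15) (.k 19)) (.kf (.mul (.k 16) (.k 19)) (.kf (.mul (.k 15) (.k 20)) (.kf (.mul (.k 16) (.k 21)) plLa0))))))))))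

def plCb10 : Plan :=
  (.kf (.fr (.fr (.k 14))) (.kf (.fr (.fr (.k 15))) (.kf (.fr (.fr (.k 16))) (.kf (.fr (.fr (.k 17))) (.kf (.fr (.fr (.k 18))) (.kf (.mul (.k 23) (.mul (.mul (.mul (.fr (.k 23)) (.fr (.fr (.k 23)))) (.fr (.fr (.fr (.k 23))))) (.mul (.mul (.fr (.k 23)) (.fr (.fr (.k 23)))) (.fr (.fr (.fr (.k 23))))))) (.kf (.mul (.k 15) (.k 19)) (.kf (.mul (.k 16) (.k 19)) (.kf (.mul (.k 15) (.k 20)) (.kf (.mul (.k 16) (.k 21)) plLb10))))))))))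

def plCb20 : Plan :=
  (.kf (.fr (.fr (.k 14))) (.kf (.fr (.fr (.k 15))) (.kf (.fr (.fr (.k 16))) (.kf (.fr (.fr (.k 17))) (.kf (.fr (.fr (.k 18))) (.kf (.mul (.k 23) (.mul (.mul (.mul (.fr (.k 23)) (.fr (.fr (.k 23)))) (.fr (.fr (.fr (.k 23))))) (.mul (.mul (.fr (.k 23)) (.fr (.fr (.k 23)))) (.fr (.fr (.fr (.k 23))))))) (.kf (.mul (.k 15) (.k 19)) (.kf (.mul (.k 16) (.k 19)) (.kf (.mul (.k 15) (.k 20)) (.kf (.mul (.k 16) (.k 21)) plLb20))))))))))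

def plCz : Plan :=
  (.kf (.fr (.fr (.k 14))) (.kf (.fr (.fr (.k 15))) (.kf (.fr (.fr (.k 16))) (.kf (.fr (.fr (.k 17))) (.kf (.fr (.fr (.k 18))) (.kf (.mul (.k 23) (.mul (.mul (.mul (.fr (.k 23)) (.fr (.fr (.k 23)))) (.fr (.fr (.fr (.k 23))))) (.mul (.mul (.fr (.k 23)) (.fr (.fr (.k 23)))) (.fr (.fr (.fr (.k 23))))))) (.kf (.mul (.k 15) (.k 19)) (.kf (.mul (.k 16) (.k 19)) (.kf (.mul (.k 15) (.k 20)) (.kf (.mul (.k 16) (.k 21)) plLz))))))))))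

def plBr0 : Plan :=
  (.or
  (.kf (.pw 0) (.kf (.fr (.fr (.k 8))) (.ksp (.k 8)
    plCb10
    plCa0)))
  (.kfl [(.k 8)]
    (.or
    (.kf .zero (.kf (.pw 0) plCb20))
    (.kf .zero (.kf .zero plCz)))))

def plR1 : Plan :=
  (.or
  (.kf (.pw 0) (.kf (.fr (.fr (.k 7))) plBr))
  (.kfl [(.k 7)]
    (.or
    (.kf .zero (.kf (.pw 0) plBr))
    (.kf .zero (.kf .zero plBr0)))))

def plan : Plan :=
  (.kf (.add (.add (.add (.add (.pw 0) (.k 0)) (.mul (.pw 1) (.k 1))) (.mul (.pw 2) (.k 2))) (.mul (.pw 3) (.k 3))) (.kf (.neg (.add (.add (.add (.pw 0) (.k 4)) (.mul (.pw 25) (.k 5))) (.mul (.pw 55) (.k 6)))) (.kf (.add (.add (.add (.add (.k 0) (.mul (.pw 20) (.k 1))) (.mul (.pw 20) (.k 2))) (.mul (.pw 60) (.k 3))) (.k 4)) (.kf (.add (.pw 0) (.k 4)) (.kf (.add (.add (.add (.mul (.pw 18) (.k 1)) (.mul (.pw 43) (.k 2))) (.mul (.pw 54)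 (.k 3))) (.k 4)) (.kf (.add (.add (.pw 0) (.mul (.pw 45) (.k 5))) (.mul (.pw 25) (.k 6))) (.kf (.add (.add (.add (.add (.add (.add (.add (.pw 0) (.mul (.pw 40) (.k 0))) (.mul (.pw 43) (.k 1))) (.mul (.pw 46) (.k 2))) (.mul (.pw 49) (.k 3))) (.k 4)) (.mul (.pw 5) (.k 5))) (.mul (.pw 65) (.k 6))) (.alt [.zero, (.pw 0), (.pw 1), (.pw 2), (.pw 3), (.pw 4), (.pw 5), (.pw 6), (.pw 7)]
  (.kfl [(.sub (.mul (.k 14) (.fr (.fr (.k 14)))) (.k 9))]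
  plR1)))))))))

end Cfsg.Agent.H136.P9
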